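import Groth.Agent.Lib.ConstRigid.Basic
import Groth.Agent.Lib.Tori.Basic
import Mathlib.Topology.LocallyConstant.Algebra
import Mathlib.CategoryTheory.Monoidal.Cartesian.Grp
import Mathlib.AlgebraicGeometry.Morphisms.FiniteType

/-!
# The constant group scheme and the trivial torus
-/

set_option autoImplicit false
set_option linter.style.haveILetI false

universe u

open CategoryTheory CategoryTheory.Limits MonoidalCategory CartesianMonoidalCategory MonObj AlgebraicGeometry
open Groth.Agent.Lib.ConstRigid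

noncomputable section

namespace Groth.Agent.H4.LargeAlb

variable (S : Scheme.{u}) (Z : Type u)

/-- Points of the constant scheme as locally constant functions. -/
def toLC {T : Over S} (y : T ⟶ TwC.const S Z) : LocallyConstant T.left Z :=
  ⟨fun t => idx (y.left t), isLocallyConstant_idx.comp_continuous y.left.continuous⟩

theorem idx_desc_ι {T : Over S} (y : T ⟶ TwC.const S Z) {O : T.left.Opens} (m : Z)
    (h : ∀ t : T.left, t ∈ O → idx (y.left t) = m) :
    O.ι ≫ y.left = (O.ι ≫ T.hom) ≫ Sigma.ι (fun _ : Z => S) m := by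
  have := eq_pt (T := Over.mk (O.ι ≫ T.hom)) ((Over.homMk O.ι : Over.mk (O.ι ≫ T.hom) ⟶ T) ≫ y) m
    fun t => h (O.ι t) t.2
  exact congrArg Over.Hom.left this

theorem toLC_injective {T : Over S} : Function.Injective (toLC S Z : (T ⟶ TwC.const S Z) → _) := by
  intro y y' h
  let U : Z → T.left.Opens := fun m => ⟨(toLC S Z y) ⁻¹' {m}, (toLC S Z y).isLocallyConstant.isOpen_fiber m⟩
  refine Over.OverMorphism.ext (Scheme.Cover.hom_ext (T.left.openCoverOfIsOpenCover U
    (TopologicalSpace.IsOpenCover.mk (top_le_iff.mp fun t _ =>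
      TopologicalSpace.Opens.mem_iSup.mpr ⟨toLC S Z y t, rfl⟩))) _ _ fun m => ?_)
  show (U m).ι ≫ y.left = (U m).ι ≫ y'.left
  rw [idx_desc_ι S Z y (O := U m) m fun t ht => ht,
    idx_desc_ι S Z y' (O := U m) m fun t ht => (congrArg (fun F : LocallyConstant T.left Z => F t) h).symm.trans ht]

theorem toLC_surjective {T : Over S} : Function.Surjective (toLC S Z : (T ⟶ TwC.const S Z) → _) := by
  intro F
  let U : Z → T.left.Opens := fun m => ⟨F ⁻¹' {m}, F.isLocallyConstant.isOpen_fiber m⟩
  let 𝒰 := T.left.openCoverOfIsOpenCover U (TopologicalSpace.IsOpenCover.mk (top_le_iff.mp fun t _ =>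
      TopologicalSpace.Opens.mem_iSup.mpr ⟨F t, rfl⟩))
  let g : ∀ m : Z, (U m : Scheme.{u}) ⟶ (TwC.const S Z).left :=
    fun m => ((U m).ι ≫ T.hom) ≫ Sigma.ι (fun _ : Z => S) m
  have hg : ∀ a b : Z, pullback.fst (U a).ι (U b).ι ≫ g a = pullback.snd (U a).ι (U b).ι ≫ g b := by
    intro a b
    rcases eq_or_ne a b with rfl | hne
    · simp only [g, Category.assoc, pullback.condition_assoc]
    · haveI : IsEmpty ↥(pullback (U a).ι (U b).ι) := ⟨fun p => hne <| by
        have e := congr($(pullback.condition (f := (U a).ι) (g := (U b).ι)) p)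
        simp only [Scheme.Hom.comp_apply] at e
        have ha : F ((U a).ι (pullback.fst (U a).ι (U b).ι p)) = a := (pullback.fst (U a).ι (U b).ι p).2
        have hb : F ((U b).ι (pullback.snd (U a).ι (U b).ι p)) = b := (pullback.snd (U a).ι (U b).ι p).2
        rw [e, hb] at ha
        exact ha.symm⟩
      exact (isInitialOfIsEmpty (X := pullback (U a).ι (U b).ι)).hom_ext _ _
  let y₀ := 𝒰.glueMorphisms g hg
  have hy : ∀ m, (U m).ι ≫ y₀ = g m := fun m => 𝒰.ι_glueMorphisms g hg m
  let y : T ⟶ TwC.const S Z := Over.homMk y₀ (Scheme.Cover.hom_ext 𝒰 _ _ fun (m : Z) =>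
    show (U m).ι ≫ y₀ ≫ (TwC.const S Z).hom = (U m).ι ≫ T.hom by
      rw [← Category.assoc, hy]
      simp [g])
  refine ⟨y, LocallyConstant.ext fun t => ?_⟩
  show idx (y₀ t) = F t
  have e := congr($(hy (F t)) ⟨t, rfl⟩)
  simp only [g] at e
  have e' : y₀ t = Sigma.ι (fun _ : Z => S) (F t) (T.hom t) := e
  rw [e', idx_ι]

/-- The points of the constant scheme. -/
def lcEquiv (T : Over S) : (T ⟶ TwC.const S Z) ≃ LocallyConstant T.left Z :=
  Equiv.ofBijective _ ⟨toLC_injective S Z, toLC_surjective S Z⟩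

variable [CommGroup Z]

/-- The functor of locally constant functions. -/
def lcFunctor : (Over S)ᵒᵖ ⥤ GrpCat.{u} where
  obj T := GrpCat.of (LocallyConstant T.unop.left Z)
  map g := GrpCat.ofHom
    { toFun := LocallyConstant.comap ⟨g.unop.left, g.unop.left.continuous⟩
      map_one' := rfl
      map_mul' := fun _ _ => rfl }

/-- Locally constant functions are represented by the constant scheme. -/
def repBy : (lcFunctor S Z ⋙ forget _).RepresentableBy (TwC.const S Z) where
  homEquiv {T} := lcEquiv S Z T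
  homEquiv_comp {T T'} g y := LocallyConstant.ext fun t => by
    show idx ((g ≫ y).left t) = idx (y.left (g.left t))
    rw [Over.comp_left, Scheme.Hom.comp_apply]

/-- The group structure of the constant scheme. -/
@[instance_reducible]
def constGrp : GrpObj (TwC.const S Z) := GrpObj.ofRepresentableBy _ (lcFunctor S Z) (repBy S Z)

theorem toLC_mul {T : Over S} (a b : T ⟶ TwC.const S Z) :
    letI := constGrp S Z
    toLC S Z (a * b) = toLC S Z a * toLC S Z b := by
  letI := constGrp S Z
  let e := fun {W : Over S} (y : W ⟶ TwC.const S Z) => toLC S Z y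
  have h : toLC S Z (fst (TwC.const S Z) (TwC.const S Z) * snd (TwC.const S Z) (TwC.const S Z)) =
      toLC S Z (fst (TwC.const S Z) (TwC.const S Z)) * toLC S Z (snd (TwC.const S Z) (TwC.const S Z)) := by
    rw [← MonObj.mul_eq_mul]
    exact (lcEquiv S Z _).apply_symm_apply _
  have h2 := congrArg (LocallyConstant.comap ⟨(lift a b).left, (lift a b).left.continuous⟩) h
  have hc : ∀ y : TwC.const S Z ⊗ TwC.const S Z ⟶ TwC.const S Z, toLC S Z (lift a b ≫ y) =
      LocallyConstant.comap ⟨(lift a b).left, (lift a b).left.continuous⟩ (toLC S Z y) :=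
    fun y => (repBy S Z).homEquiv_comp (lift a b) y
  rw [← hc] at h2
  rw [MonObj.comp_mul, lift_fst, lift_snd] at h2
  rw [h2, ← congrArg (toLC S Z) (lift_fst a b), ← congrArg (toLC S Z) (lift_snd a b), hc, hc]
  rfl

theorem isCommMonObj_constGrp : letI := constGrp S Z; IsCommMonObj (TwC.const S Z) := by
  letI := constGrp S Z
  refine ⟨?_⟩
  rw [MonObj.mul_eq_mul, MonObj.comp_mul, braiding_hom_fst, braiding_hom_snd]
  apply toLC_injective S Z
  rw [toLC_mul, toLC_mul, _root_.mul_comm]

omit [CommGroup Z] in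
theorem locallyOfFiniteType_const : LocallyOfFiniteType (TwC.const S Z).hom :=
  haveI : IsZariskiLocalAtSource @LocallyOfFiniteType.{u} := HasRingHomProperty.instIsZariskiLocalAtSource
  IsZariskiLocalAtSource.sigmaDesc (P := @LocallyOfFiniteType) fun _ => inferInstance

omit [CommGroup Z] in
/-- The trivial torus. -/
theorem isIso_trivialTorus_hom : IsIso (Red.DS S (Fin 0 → ℤ)).hom := by
  let R := ULift.{u} ℤ
  have hb : Function.Bijective (algebraMap R (MonoidAlgebra R (Multiplicative (Fin 0 → ℤ)))) := by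
    refine ⟨fun a b h => ?_, fun z => ⟨z.coeff 1, ?_⟩⟩
    · simpa using congrArg (fun w : MonoidAlgebra R (Multiplicative (Fin 0 → ℤ)) => w.coeff 1) h
    · refine MonoidAlgebra.ext (Finsupp.ext fun m => ?_)
      rw [Subsingleton.elim m 1]
      simp
  haveI : IsIso (CommRingCat.ofHom (algebraMap R (MonoidAlgebra R (Multiplicative (Fin 0 → ℤ))))) :=
    (ConcreteCategory.isIso_iff_bijective _).2 hb
  haveI : IsIso (Red.diag R (Fin 0 → ℤ)).hom :=
    inferInstanceAs (IsIso (Spec.map (CommRingCat.ofHom (algebraMap R (MonoidAlgebra R (Multiplicative (Fin 0 → ℤ)))))))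
  exact inferInstanceAs (IsIso (pullback.snd (Red.diag R (Fin 0 → ℤ)).hom _))

end Groth.Agent.H4.LargeAlb
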