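import Groth.Agent.H4.HomImage
import Groth.Agent.H52.FBase.GeomRedSch
import Groth.Agent.H52.FBase.NotGeomIrr
import Groth.Agent.H63.GrpDim
import Groth.Agent.S2266

/-!
# The subgroup generated by a complete variety

For a morphism `α : X ⟶ G` from a proper variety to a commutative group over an algebraically closed
field, the differences of values of `α` lie in a proper connected subgroup.
-/

set_option autoImplicit false
set_option linter.style.haveILetI false
set_option linter.unusedSectionVars false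

universe u

open CategoryTheory CategoryTheory.Limits MonoidalCategory CartesianMonoidalCategory MonObj AlgebraicGeometry

noncomputable section

namespace Groth.Agent.H4.LargeAlb

variable {k : Type u} [Field k]

theorem geometricallyIntegral_of_isIntegral [IsAlgClosed k] (X : Over (Spec (CommRingCat.of k)))
    [IsIntegral X.left] : GeometricallyIntegral X.hom := by
  haveI : GeometricallyReduced X.hom := H52.FBase.GeomRedSch.geometricallyReduced_of_perfectField X.hom
  haveI : GeometricallyIrreducible X.hom := by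
    refine H52.FBase.NotGeomIrr.geometricallyIrreducible_of_generic X.hom ?_
    refine eq_bot_iff.2 fun x hx => ?_
    rw [IntermediateField.mem_bot]
    have hint : IsIntegral k x := (mem_separableClosure_iff.1 hx).isIntegral
    exact minpoly.mem_range_of_degree_eq_one k x
      (IsAlgClosed.degree_eq_one_of_irreducible k (minpoly.irreducible hint))
  exact GeometricallyIntegral.of_geometricallyReduced_of_geometricallyIrreducible (f := X.hom)

section Sub

variable [IsAlgClosed k] {X G : Over (Spec (CommRingCat.of k))}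

variable (X) in
/-- Iterated products. -/
def stage : ℕ → Over (Spec (CommRingCat.of k))
  | 0 => 𝟙_ _
  | n + 1 => (stage n ⊗ X) ⊗ X

variable [GrpObj G]

/-- Sums of differences. -/
def stageHom (α : X ⟶ G) : ∀ n, stage X n ⟶ G
  | 0 => η[G]
  | n + 1 => (fst (stage X n ⊗ X) X ≫ fst (stage X n) X ≫ stageHom α n) *
      (fst (stage X n ⊗ X) X ≫ snd (stage X n) X ≫ α) * (snd (stage X n ⊗ X) X ≫ α)⁻¹

theorem tensor_props (A B : Over (Spec (CommRingCat.of k))) [IsProper A.hom] [GeometricallyIntegral A.hom]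
    [IsProper B.hom] [GeometricallyIntegral B.hom] :
    IsProper (A ⊗ B).hom ∧ GeometricallyIntegral (A ⊗ B).hom ∧ IsIntegral (A ⊗ B).left := by
  haveI hp : IsProper (A ⊗ B).hom := inferInstanceAs (IsProper (pullback.fst A.hom B.hom ≫ A.hom))
  haveI : IsIntegral A.left := GeometricallyIntegral.isIntegral_of_subsingleton A.hom
  haveI : IsLocallyNoetherian A.left := LocallyOfFiniteType.isLocallyNoetherian A.hom
  haveI : UniversallyOpen B.hom := inferInstance
  haveI hi : IsIntegral (A ⊗ B).left := inferInstanceAs (IsIntegral (pullback A.hom B.hom))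
  exact ⟨hp, geometricallyIntegral_of_isIntegral (A ⊗ B), hi⟩

variable [IsProper X.hom] [GeometricallyIntegral X.hom]

theorem stage_props : ∀ n, IsProper (stage X n).hom ∧ GeometricallyIntegral (stage X n).hom ∧
    IsIntegral (stage X n).left
  | 0 => by
    haveI : IsIntegral (𝟙_ (Over (Spec (CommRingCat.of k)))).left :=
      inferInstanceAs (IsIntegral (Spec (CommRingCat.of k)))
    exact ⟨inferInstanceAs (IsProper (𝟙 (Spec (CommRingCat.of k)))),
      geometricallyIntegral_of_isIntegral (𝟙_ (Over (Spec (CommRingCat.of k)))),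
      inferInstanceAs (IsIntegral (Spec (CommRingCat.of k)))⟩
  | n + 1 => by
    obtain ⟨h1, h2, -⟩ := stage_props n
    haveI := h1; haveI := h2
    obtain ⟨h3, h4, -⟩ := tensor_props (stage X n) X
    haveI := h3; haveI := h4
    exact tensor_props (stage X n ⊗ X) X

omit [GrpObj G] in
theorem range_comp_subset {A B : Over (Spec (CommRingCat.of k))} (p : A ⟶ B) (f : B ⟶ G) :
    Set.range (p ≫ f).left ⊆ Set.range f.left := by
  rintro _ ⟨a, rfl⟩
  exact ⟨p.left a, (Scheme.Hom.comp_apply _ _ _).symm⟩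

theorem comp_stageHom_succ (α : X ⟶ G) (n : ℕ) {T : Over (Spec (CommRingCat.of k))}
    (z : T ⟶ (stage X n ⊗ X) ⊗ X) :
    z ≫ (stageHom α (n + 1) : (stage X n ⊗ X) ⊗ X ⟶ G) =
      (z ≫ fst _ _ ≫ fst _ _) ≫ stageHom α n * (z ≫ fst _ _ ≫ snd _ _) ≫ α * ((z ≫ snd _ _) ≫ α)⁻¹ := by
  show z ≫ (_ * _ * _ : (stage X n ⊗ X) ⊗ X ⟶ G) = _
  rw [MonObj.comp_mul, MonObj.comp_mul, GrpObj.comp_inv]
  simp only [Category.assoc]

theorem range_stageHom_mono (α : X ⟶ G) (x₀ : 𝟙_ (Over (Spec (CommRingCat.of k))) ⟶ X) (n : ℕ) :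
    Set.range (stageHom α n).left ⊆ Set.range (stageHom α (n + 1)).left := by
  let s : stage X n ⟶ (stage X n ⊗ X) ⊗ X :=
    lift (lift (𝟙 _) (toUnit _ ≫ x₀)) (toUnit _ ≫ x₀)
  have e : s ≫ stageHom α (n + 1) = stageHom α n := by
    show s ≫ (_ * _ * _ : (stage X n ⊗ X) ⊗ X ⟶ G) = _
    rw [MonObj.comp_mul, MonObj.comp_mul, GrpObj.comp_inv]
    simp [s]
  rw [← e]
  exact range_comp_subset _ _

omit [GrpObj G] in
theorem range_comp_of_surjective {A B : Over (Spec (CommRingCat.of k))} (p : A ⟶ B) [Surjective p.left]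
    (f : B ⟶ G) : Set.range (p ≫ f).left = Set.range f.left := by
  refine subset_antisymm (range_comp_subset p f) ?_
  rintro _ ⟨b, rfl⟩
  obtain ⟨a, rfl⟩ := p.left.surjective b
  exact ⟨a, Scheme.Hom.comp_apply _ _ _⟩

theorem exists_stable [LocallyOfFiniteType G.hom] (α : X ⟶ G)
    (x₀ : 𝟙_ (Over (Spec (CommRingCat.of k))) ⟶ X) :
    ∃ N, ∀ n, Set.range (stageHom α n).left ⊆ Set.range (stageHom α N).left := by
  haveI : IsSeparated G.hom := Lib.GrpSch.isSeparated_of_field G
  have hclosed : ∀ n, IsClosed (Set.range (stageHom α n).left) := fun n => by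
    haveI := (stage_props (X := X) n).1
    haveI : IsProper ((stageHom α n).left ≫ G.hom) := by rw [Over.w]; infer_instance
    haveI : IsProper (stageHom α n).left := IsProper.of_comp _ G.hom
    exact (stageHom α n).left.isClosedMap.isClosed_range
  have hirr : ∀ n, IsIrreducible (Set.range (stageHom α n).left) := fun n => by
    haveI := (stage_props (X := X) n).2.2
    rw [← Set.image_univ]
    exact (IrreducibleSpace.isIrreducible_univ (X := (stage X n).left)).image _
      (stageHom α n).left.continuous.continuousOn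
  let R : ℕ → TopologicalSpace.IrreducibleCloseds G.left := fun n =>
    ⟨Set.range (stageHom α n).left, hirr n, hclosed n⟩
  have hmono : Monotone R := monotone_nat_of_le_succ fun n => range_stageHom_mono α x₀ n
  have hd := H63.GrpDim.topologicalKrullDim_eq G
  generalize Lib.VarDim.Basic.pdim G.hom _ = d at hd
  by_contra hne
  push Not at hne
  have hstep : ∀ n, ∃ m, R n < R m := fun n => by
    obtain ⟨m, hm⟩ := hne n
    refine ⟨max n m, lt_of_le_of_ne (hmono (le_max_left _ _)) fun h => hm ?_⟩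
    exact (show R m ≤ R n by rw [h]; exact hmono (le_max_right _ _))
  choose nx hnx using hstep
  let q : ℕ → ℕ := fun j => nx^[j] 0
  have hq : StrictMono (R ∘ q) := strictMono_nat_of_lt_succ fun j => by
    show R (nx^[j] 0) < R (nx^[j + 1] 0)
    rw [Function.iterate_succ_apply']
    exact hnx _
  have hlt := Order.LTSeries.length_le_krullDim (LTSeries.mk (d + 1) (fun i => R (q i))
    (hq.comp Fin.val_strictMono))
  rw [show Order.krullDim (TopologicalSpace.IrreducibleCloseds G.left) = topologicalKrullDim G.left from rfl, hd]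
    at hlt
  have h2 : d + 1 ≤ d := by exact_mod_cast hlt
  omega

variable [IsCommMonObj G] [LocallyOfFiniteType G.hom]

/-- The differences of the values of a morphism lie in a proper connected subgroup. -/
theorem exists_generated (α : X ⟶ G) (x₀ : 𝟙_ (Over (Spec (CommRingCat.of k))) ⟶ X) :
    ∃ (M : Over (Spec (CommRingCat.of k))) (_ : GrpObj M) (i : M ⟶ G), IsMonHom i ∧ IsClosedImmersion i.left ∧
      IsProper M.hom ∧ GeometricallyIntegral M.hom ∧ ∃ β : X ⟶ M, β ≫ i = α * (toUnit X ≫ x₀ ≫ α)⁻¹ := by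
  haveI : IsSeparated G.hom := Lib.GrpSch.isSeparated_of_field G
  obtain ⟨N, hN⟩ := exists_stable α x₀
  obtain ⟨hZp, hZg, hZi⟩ := stage_props (X := X) N
  haveI := hZp; haveI := hZg; haveI := hZi
  let Z := stage X N
  let f := stageHom α N
  haveI : IsProper (f.left ≫ G.hom) := by rw [Over.w f]; infer_instance
  haveI : IsProper f.left := IsProper.of_comp f.left G.hom
  let M : Over (Spec (CommRingCat.of k)) := Over.mk (f.left.imageι ≫ G.hom)
  let i : M ⟶ G := Over.homMk f.left.imageι
  let π : Z ⟶ M := Over.homMk f.left.toImage (by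
    show f.left.toImage ≫ f.left.imageι ≫ G.hom = _
    rw [Scheme.Hom.toImage_imageι_assoc, Over.w f])
  haveI : IsClosedImmersion i.left := inferInstanceAs (IsClosedImmersion f.left.imageι)
  have hπi : π ≫ i = f := Over.OverMorphism.ext f.left.toImage_imageι
  haveI : IsProper (π.left ≫ i.left) := by rw [← Over.comp_left, hπi]; infer_instance
  haveI : IsProper π.left := IsProper.of_comp π.left i.left
  haveI : IsDominant π.left := inferInstanceAs (IsDominant f.left.toImage)
  haveI hπs : Surjective π.left := ⟨fun z => by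
    have h := π.left.denseRange.closure_eq
    rw [π.left.isClosedMap.isClosed_range.closure_eq] at h
    exact h.ge (Set.mem_univ z)⟩
  haveI : IsReduced M.left := (Groth.Agent.S2266.result f.left).1
  haveI : IrreducibleSpace M.left := by
    have h := (IrreducibleSpace.isIrreducible_univ (X := Z.left)).image _ π.left.continuous.continuousOn
    rw [Set.image_univ, π.left.surjective.range_eq] at h
    rw [irreducibleSpace_def]
    exact h
  haveI : IsIntegral M.left := isIntegral_of_irreducibleSpace_of_isReduced M.left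
  haveI hMp : IsProper M.hom :=
    { toIsSeparated := inferInstanceAs (IsSeparated (f.left.imageι ≫ G.hom))
      toUniversallyClosed := by
        haveI : UniversallyClosed (π.left ≫ M.hom) := by rw [Over.w π]; infer_instance
        exact UniversallyClosed.of_comp_surjective π.left M.hom
      toLocallyOfFiniteType := inferInstanceAs (LocallyOfFiniteType (f.left.imageι ≫ G.hom)) }
  haveI hMg : GeometricallyIntegral M.hom := geometricallyIntegral_of_isIntegral M
  haveI : Mono i := (Over.forget _).mono_of_mono_map (inferInstanceAs (Mono i.left))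
  have hri : Set.range i.left = Set.range f.left := by
    rw [← hπi, range_comp_of_surjective π i]
  have hfac : ∀ (n : ℕ), ∃ p : stage X n ⟶ M, p ≫ i = stageHom α n := fun n => by
    haveI := (stage_props (X := X) n).2.2
    exact HomImage.exists_factor i _ (by rw [hri]; exact hN n)
  -- stability under adding differences
  obtain ⟨hp1, hg1, hi1⟩ := tensor_props M X
  haveI := hp1; haveI := hg1; haveI := hi1
  obtain ⟨-, -, hi2⟩ := tensor_props (M ⊗ X) X
  haveI := hi2
  have hstep : ∃ σ : (M ⊗ X) ⊗ X ⟶ M, σ ≫ i = (fst (M ⊗ X) X ≫ fst M X ≫ i) *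
      (fst (M ⊗ X) X ≫ snd M X ≫ α) * (snd (M ⊗ X) X ≫ α)⁻¹ := by
    haveI : Surjective ((π ▷ X) ▷ X).left := by
      haveI : Surjective (π ▷ X).left := Lib.GrpSch.whiskerRight_left_of (P := @Surjective) π X inferInstance
      exact Lib.GrpSch.whiskerRight_left_of (P := @Surjective) (π ▷ X) X inferInstance
    refine HomImage.exists_factor i _ ?_
    rw [hri, ← range_comp_of_surjective ((π ▷ X) ▷ X)]
    refine subset_of_eq_of_subset ?_ (hN (N + 1))
    refine congrArg (fun z : (stage X N ⊗ X) ⊗ X ⟶ G => Set.range z.left) ?_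
    show _ = (_ * _ * _ : (stage X N ⊗ X) ⊗ X ⟶ G)
    rw [MonObj.comp_mul, MonObj.comp_mul, GrpObj.comp_inv]
    simp only [whiskerRight_fst_assoc, whiskerRight_snd_assoc, hπi]
    rfl
  obtain ⟨σ, hσ⟩ := hstep
  have hσ' : ∀ {T : Over (Spec (CommRingCat.of k))} (g : T ⟶ M) (a b : T ⟶ X),
      lift (lift g a) b ≫ σ ≫ i = (g ≫ i) * (a ≫ α) * (b ≫ α)⁻¹ := fun g a b => by
    rw [hσ, MonObj.comp_mul, MonObj.comp_mul, GrpObj.comp_inv]
    simp
  have h0 : ∀ {T : Over (Spec (CommRingCat.of k))} (z : T ⟶ stage X 0), z ≫ stageHom α 0 = 1 := fun {T} z =>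
    (congrArg (· ≫ η[G]) (toUnit_unique (z : T ⟶ 𝟙_ _) (toUnit T))).trans Hom.one_def.symm
  have hadd : ∀ (n : ℕ) {T : Over (Spec (CommRingCat.of k))} (g : T ⟶ M) (z : T ⟶ stage X n),
      ∃ m : T ⟶ M, m ≫ i = (g ≫ i) * (z ≫ stageHom α n) := by
    intro n
    induction n with
    | zero =>
      intro T g z
      refine ⟨g, ?_⟩
      rw [h0, _root_.mul_one]
    | succ n ih =>
      intro T g z0
      obtain ⟨z, rfl⟩ : ∃ z : T ⟶ (stage X n ⊗ X) ⊗ X, z = z0 := ⟨z0, rfl⟩
      obtain ⟨m, hm⟩ := ih g (z ≫ fst _ _ ≫ fst _ _)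
      refine ⟨lift (lift m (z ≫ fst _ _ ≫ snd _ _)) (z ≫ snd _ _) ≫ σ, ?_⟩
      rw [Category.assoc, hσ', hm]
      refine Eq.trans ?_ (congrArg (g ≫ i * ·) (comp_stageHom_succ α n z)).symm
      simp only [_root_.mul_assoc]
  have hneg : ∀ (n : ℕ) {T : Over (Spec (CommRingCat.of k))} (z : T ⟶ stage X n),
      ∃ m : T ⟶ M, m ≫ i = (z ≫ stageHom α n)⁻¹ := by
    intro n
    induction n with
    | zero =>
      intro T z
      obtain ⟨p, hp⟩ := hfac 0
      refine ⟨z ≫ p, ?_⟩
      rw [Category.assoc, hp]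
      rw [h0, inv_one]
    | succ n ih =>
      intro T z0
      obtain ⟨z, rfl⟩ : ∃ z : T ⟶ (stage X n ⊗ X) ⊗ X, z = z0 := ⟨z0, rfl⟩
      obtain ⟨m, hm⟩ := ih (z ≫ fst _ _ ≫ fst _ _)
      refine ⟨lift (lift m (z ≫ snd _ _)) (z ≫ fst _ _ ≫ snd _ _) ≫ σ, ?_⟩
      rw [Category.assoc, hσ', hm]
      refine Eq.trans ?_ (congrArg (·⁻¹) (comp_stageHom_succ α n z)).symm
      rw [mul_inv_rev, mul_inv_rev, inv_inv]
      simp only [_root_.mul_comm, _root_.mul_left_comm]
  -- the group structure
  have hone : ∃ e : 𝟙_ _ ⟶ M, e ≫ i = η[G] := hfac 0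
  have hmul : ∃ m : M ⊗ M ⟶ M, m ≫ i = (fst M M ≫ i) * (snd M M ≫ i) := by
    haveI : IsIntegral (M ⊗ M).left := (tensor_props M M).2.2
    haveI : Surjective (M ◁ π).left := Lib.GrpSch.whiskerLeft_left_of (P := @Surjective) M π inferInstance
    refine HomImage.exists_factor i _ ?_
    rw [← range_comp_of_surjective (M ◁ π)]
    obtain ⟨m, hm⟩ := hadd N (fst M Z) (snd M Z)
    rw [show (M ◁ π) ≫ ((fst M M ≫ i) * (snd M M ≫ i)) = m ≫ i by
      rw [hm, MonObj.comp_mul]
      simp [hπi, f, Z]]
    exact range_comp_subset _ _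
  have hinv : ∃ n : M ⟶ M, n ≫ i = i⁻¹ := by
    refine HomImage.exists_factor i _ ?_
    rw [← range_comp_of_surjective π]
    obtain ⟨m, hm⟩ := hneg N (𝟙 Z)
    rw [show π ≫ i⁻¹ = m ≫ i by rw [hm, GrpObj.comp_inv, hπi, Category.id_comp]]
    exact range_comp_subset _ _
  obtain ⟨instM, hmon⟩ := HomImage.exists_grpObj i hone hmul hinv
  obtain ⟨p, hp⟩ := hfac 1
  refine ⟨M, instM, i, hmon, ‹_›, hMp, hMg,
    (lift (lift (toUnit X : X ⟶ stage X 0) (𝟙 X)) (toUnit X ≫ x₀) : X ⟶ (stage X 0 ⊗ X) ⊗ X) ≫ p, ?_⟩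
  refine (Category.assoc _ _ _).trans ((congrArg (_ ≫ ·) hp).trans ((comp_stageHom_succ α 0 _).trans ?_))
  rw [h0, _root_.one_mul]
  simp

end Sub

end Groth.Agent.H4.LargeAlb
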